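import Groth.Agent.FlatMorDimProd.Main
import Groth.Agent.VarietyLib.LocalDimPt
import Groth.Agent.CycLim28.Fibre

/-!
# Local dimension and residue transcendence degree under extensions of the ground field
-/

set_option autoImplicit false
set_option backward.isDefEq.respectTransparency false
set_option linter.style.haveILetI false

universe u

open CategoryTheory CategoryTheory.Limits AlgebraicGeometry TopologicalSpace IsLocalRing

namespace Groth.Agent.FlatMorDimProd

open Groth.Agent

variable {k : Type u} [Field k] {X : Scheme.{u}} (f : X ⟶ Spec (.of k)) [LocallyOfFiniteType f]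
  (K : Type u) [Field K] [Algebra k K]

/-- A closed subscheme with underlying set the closure of the image point, base changed. -/
theorem exists_closure_bc (w : X) :
    ∃ (Z : Scheme.{u}) (i : Z ⟶ X) (_ : IsClosedImmersion i)
      (mm : pullback (i ≫ f) (Spec.map (CommRingCat.ofHom (algebraMap k K))) ⟶
        pullback f (Spec.map (CommRingCat.ofHom (algebraMap k K)))),
      IsClosedImmersion mm ∧ mm ≫ pullback.snd _ _ = pullback.snd _ _ ∧
        mm ≫ pullback.fst _ _ = pullback.fst _ _ ≫ i ∧ Set.range i = closure {w} ∧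
        ∀ z, w ⤳ DimLib.bcFst f K z → z ∈ Set.range mm := by
  obtain ⟨Z, i, hi, hiw⟩ := exists_reduced_closure w
  let q := Spec.map (CommRingCat.ofHom (algebraMap k K))
  let mm : pullback (i ≫ f) q ⟶ pullback f q :=
    pullback.map (i ≫ f) q f q i (𝟙 _) (𝟙 _) (by rw [Category.comp_id]) (by simp)
  refine ⟨Z, i, hi, mm, MorphismProperty.pullbackMap (P := @IsClosedImmersion.{u}) hi inferInstance rfl (by simp),
    by simp [mm, q], by simp [mm, q], hiw, fun z hz => ?_⟩
  rw [Scheme.Pullback.range_map]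
  exact ⟨hiw.ge (specializes_iff_mem_closure.1 hz), ⟨pullback.snd f q z, rfl⟩⟩

theorem exists_bc_generization (z : ↥(pullback f (Spec.map (CommRingCat.ofHom (algebraMap k K))))) {w : X}
    (hw : w ⤳ DimLib.bcFst f K z) :
    ∃ z', z' ⤳ z ∧ DimLib.ptDim (DimLib.bcStr f K) z' = DimLib.ptDim f w := by
  obtain ⟨Z, i, hi, mm, hmm, hmm₂, hmm₁, hiw, hrange⟩ := exists_closure_bc f K w
  obtain ⟨z₀, hz₀⟩ := hrange z hw
  obtain ⟨η, hη⟩ := QuasiSober.sober (S := irreducibleComponent z₀) isIrreducible_irreducibleComponent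
    isClosed_irreducibleComponent
  have hηz : η ⤳ z₀ := hη.specializes mem_irreducibleComponent
  have hmax : ∀ t, t ⤳ η → η = t := by
    intro t ht
    have h1 : irreducibleComponent z₀ ⊆ closure {t} := by
      rw [← hη.def]
      exact closure_minimal (Set.singleton_subset_iff.2 (specializes_iff_mem_closure.1 ht)) isClosed_closure
    have h2 := (irreducibleComponent_mem_irreducibleComponents z₀).2 isIrreducible_singleton.closure h1
    exact ((hη.specializes (h2 (subset_closure rfl))).antisymm ht).eq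
  haveI : Flat (Spec.map (CommRingCat.ofHom (algebraMap k K))) := DimLib.flat_over_field _
  haveI : Flat (DimLib.bcFst (i ≫ f) K) := inferInstance
  have hx : i (DimLib.bcFst (i ≫ f) K η) = w := by
    obtain ⟨w', hw'⟩ : w ∈ Set.range i := hiw.ge (subset_closure rfl)
    have hs : w' ⤳ DimLib.bcFst (i ≫ f) K η := by
      rw [← i.isEmbedding.isInducing.specializes_iff, hw', specializes_iff_mem_closure]
      exact hiw.le ⟨_, rfl⟩
    rw [DimLib.isMax_apply_of_flat (DimLib.bcFst (i ≫ f) K) hmax w' hs, hw']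
  refine ⟨mm η, hz₀ ▸ hηz.map mm.continuous, ?_⟩
  have h := DimLib.ptDim_bc_eq_of_maximal (i ≫ f) K (z := η) fun t ht _ => hmax t ht
  rw [DimLib.ptDim_comp_preimmersion f i, hx] at h
  rw [← h, ← DimLib.ptDim_comp_preimmersion (DimLib.bcStr f K) mm η]
  exact congrArg (DimLib.ptDim · η) hmm₂

theorem localDim_bc (z : ↥(pullback f (Spec.map (CommRingCat.ofHom (algebraMap k K))))) :
    FlatMor.localDim ↥(pullback f (Spec.map (CommRingCat.ofHom (algebraMap k K)))) z =
      FlatMor.localDim X (DimLib.bcFst f K z) := by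
  obtain ⟨n, hn, hnle, w, hw, hwn⟩ := exists_localDim_eq f (DimLib.bcFst f K z)
  obtain ⟨l, hl, hlle, t, ht, htl⟩ := exists_localDim_eq (DimLib.bcStr f K) z
  obtain ⟨z', hz', he⟩ := exists_bc_generization f K z hw
  have h1 : l ≤ n := htl ▸ (DimLib.ptDim_bc_le f K t).trans (hnle _ (ht.map (DimLib.bcFst f K).continuous))
  have h2 : n ≤ l := by rw [← hwn, ← he]; exact hlle z' hz'
  rw [hn, hl, le_antisymm h1 h2]

/-- The fibre ring of the projection at a point has dimension the drop of transcendence degree. -/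
theorem ringKrullDim_fibre_bc (z : ↥(pullback f (Spec.map (CommRingCat.ofHom (algebraMap k K))))) :
    ringKrullDim ((pullback f (Spec.map (CommRingCat.ofHom (algebraMap k K)))).presheaf.stalk z ⧸
        Ideal.map ((DimLib.bcFst f K).stalkMap z).hom (maximalIdeal (X.presheaf.stalk (DimLib.bcFst f K z)))) +
      (DimLib.ptDim (DimLib.bcStr f K) z : WithBot ℕ∞) = (DimLib.ptDim f (DimLib.bcFst f K z) : WithBot ℕ∞) := by
  obtain ⟨Z, i, hi, mm, hmm, hmm₂, hmm₁, hiw, hrange⟩ := exists_closure_bc f K (DimLib.bcFst f K z)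
  obtain ⟨z₀, rfl⟩ := hrange z specializes_rfl
  let W := pullback f (Spec.map (CommRingCat.ofHom (algebraMap k K)))
  let p := DimLib.bcFst f K
  let φ := (mm.stalkMap z₀).hom
  have hsurj : Function.Surjective φ := mm.stalkMap_surjective z₀
  have hp : p (mm z₀) = i (DimLib.bcFst (i ≫ f) K z₀) :=
    congrArg (fun m : _ ⟶ X => m z₀) hmm₁
  have hzl : PrimeSpectrum.zeroLocus (Ideal.map (p.stalkMap (mm z₀)).hom (maximalIdeal (X.presheaf.stalk (p (mm z₀)))) : Set _) =
      PrimeSpectrum.zeroLocus (RingHom.ker φ : Set (W.presheaf.stalk (mm z₀))) := by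
    rw [← range_comap_of_surjective _ φ hsurj]
    ext q
    rw [PrimeSpectrum.mem_zeroLocus, SetLike.coe_subset_coe]
    refine (CycLim28.map_maximalIdeal_le_iff p (mm z₀) q).trans ⟨fun hq => ?_, ?_⟩
    · have hqs : W.fromSpecStalk (mm z₀) q ⤳ mm z₀ :=
        (Scheme.range_fromSpecStalk (X := W) (x := mm z₀)).le ⟨q, rfl⟩
      obtain ⟨t, ht⟩ := hrange (W.fromSpecStalk (mm z₀) q) (specializes_of_eq hq.symm)
      have hts : t ⤳ z₀ := mm.isEmbedding.isInducing.specializes_iff.1 (ht ▸ hqs)
      obtain ⟨q', hq'⟩ := (Scheme.range_fromSpecStalk (X := pullback (i ≫ f) _) (x := z₀)).ge hts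
      refine ⟨q', (W.fromSpecStalk (mm z₀)).isEmbedding.injective ?_⟩
      rw [← ht, ← hq']
      exact congrArg (fun m : _ ⟶ W => m q') (Scheme.SpecMap_stalkMap_fromSpecStalk mm (x := z₀))
    · rintro ⟨q', rfl⟩
      have hq := congrArg (fun m : _ ⟶ W => m q') (Scheme.SpecMap_stalkMap_fromSpecStalk mm (x := z₀))
      show p (W.fromSpecStalk (mm z₀) (PrimeSpectrum.comap φ q')) = p (mm z₀)
      rw [show W.fromSpecStalk (mm z₀) (PrimeSpectrum.comap φ q') =
        mm ((pullback (i ≫ f) _).fromSpecStalk z₀ q') from hq]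
      have hs : (pullback (i ≫ f) (Spec.map (CommRingCat.ofHom (algebraMap k K)))).fromSpecStalk z₀ q' ⤳ z₀ :=
        (Scheme.range_fromSpecStalk (X := pullback (i ≫ f) _) (x := z₀)).le ⟨q', rfl⟩
      refine ((hs.map mm.continuous).map p.continuous).antisymm ?_ |>.eq
      rw [specializes_iff_mem_closure]
      refine hiw.le ⟨DimLib.bcFst (i ≫ f) K ((pullback (i ≫ f) _).fromSpecStalk z₀ q'), ?_⟩
      exact (congrArg (fun m : _ ⟶ X => m _) hmm₁).symm
  rw [ringKrullDim_quotient, hzl, ← ringKrullDim_quotient,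
    ringKrullDim_eq_of_ringEquiv (RingHom.quotientKerEquivOfSurjective hsurj)]
  have h := VarietyLib.localDim_eq_stalk_add_ptDim (DimLib.bcStr (i ≫ f) K) z₀
  rw [localDim_bc (i ≫ f) K z₀] at h
  obtain ⟨n, hn, hnle, w, hw, hwn⟩ := exists_localDim_eq (i ≫ f) (DimLib.bcFst (i ≫ f) K z₀)
  have hw' : w = DimLib.bcFst (i ≫ f) K z₀ := by
    refine i.isEmbedding.injective ((hw.map i.continuous).antisymm ?_).eq
    rw [← hp, specializes_iff_mem_closure]
    exact hiw.le ⟨w, rfl⟩
  have hstr : DimLib.bcStr (i ≫ f) K = mm ≫ DimLib.bcStr f K := hmm₂.symm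
  rw [hn, ← hwn, hw', DimLib.ptDim_comp_preimmersion f i, ← hp, hstr,
    DimLib.ptDim_comp_preimmersion (DimLib.bcStr f K) mm] at h
  exact h.symm

end Groth.Agent.FlatMorDimProd
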