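import Groth.Agent.DimLib.BaseChange
import Groth.Agent.DimLib.Maximal
import Groth.Agent.DimLib.Sub
import Groth.Agent.FlatMorDim.LocalDim
import Mathlib.AlgebraicGeometry.IdealSheaf.Subscheme

/-!
# Local dimension of a product over a field
-/

set_option autoImplicit false
set_option backward.isDefEq.respectTransparency false
set_option linter.style.haveILetI false

universe u

open CategoryTheory CategoryTheory.Limits AlgebraicGeometry TopologicalSpace

namespace Groth.Agent.FlatMorDimProd

open Groth.Agent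

variable {k : Type u} [Field k] {X Y : Scheme.{u}}

theorem exists_bound (p : X ⟶ Spec (.of k)) [LocallyOfFiniteType p] (x : X) :
    ∃ n : ℕ, ∀ w, w ⤳ x → DimLib.ptDim p w ≤ n := by
  classical
  obtain ⟨V, hV, hxV, -⟩ := exists_isAffineOpen_mem_and_subset (x := x) (U := (⊤ : X.Opens)) trivial
  have : IsAffine V.toScheme := hV
  have := LocallyOfFiniteType.isLocallyNoetherian p
  have : IsNoetherian V.toScheme := { }
  have hfin := TopologicalSpace.NoetherianSpace.finite_irreducibleComponents (α := V.toScheme)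
  choose η hη using fun C : {C // C ∈ irreducibleComponents V.toScheme} =>
    QuasiSober.sober C.2.1 (isClosed_of_mem_irreducibleComponents C.1 C.2)
  haveI := hfin.to_subtype
  haveI := Fintype.ofFinite {C // C ∈ irreducibleComponents V.toScheme}
  refine ⟨Finset.univ.sup fun C => DimLib.ptDim p (η C).1, fun w hw => ?_⟩
  let v : V.toScheme := ⟨w, hw.mem_open V.isOpen hxV⟩
  let C : {C // C ∈ irreducibleComponents V.toScheme} :=
    ⟨irreducibleComponent v, irreducibleComponent_mem_irreducibleComponents v⟩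
  have h : (η C).1 ⤳ w := ((hη C).specializes mem_irreducibleComponent).map V.ι.continuous
  exact (DimLib.ptDim_le_of_specializes p h).trans (Finset.le_sup (f := fun C => DimLib.ptDim p (η C).1) (Finset.mem_univ C))

theorem exists_localDim_eq (p : X ⟶ Spec (.of k)) [LocallyOfFiniteType p] (x : X) :
    ∃ n : ℕ, FlatMor.localDim X x = (n : WithBot ℕ∞) ∧ (∀ w, w ⤳ x → DimLib.ptDim p w ≤ n) ∧
      ∃ w, w ⤳ x ∧ DimLib.ptDim p w = n := by
  classical
  obtain ⟨N, hN⟩ := exists_bound p x
  let P : ℕ → Prop := fun n => ∀ w, w ⤳ x → DimLib.ptDim p w ≤ n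
  have hP : ∃ n, P n := ⟨N, hN⟩
  let n := Nat.find hP
  have hn : P n := Nat.find_spec hP
  have hex : ∃ w, w ⤳ x ∧ DimLib.ptDim p w = n := by
    by_contra hne
    rcases Nat.eq_zero_or_pos n with h0 | h0
    · exact hne ⟨x, specializes_rfl, le_antisymm (hn x specializes_rfl) (h0 ▸ Nat.zero_le _)⟩
    · have := Nat.find_min hP (Nat.sub_lt h0 one_pos)
      exact this fun w hw => Nat.le_sub_one_of_lt (lt_of_le_of_ne (hn w hw) fun e => hne ⟨w, hw, e⟩)
  refine ⟨n, le_antisymm ((FlatMorDim.localDim_le_iff p x n).2 hn) ?_, hn, hex⟩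
  obtain ⟨w, hw, e⟩ := hex
  refine le_iInf fun ⟨U, hU⟩ => ?_
  let U' : X.Opens := U
  have := DimLib.ptDim_le_topologicalKrullDim (U'.ι ≫ p) ⟨w, hw.mem_open U.isOpen hU⟩
  rw [DimLib.ptDim_comp_preimmersion] at this
  rw [← e]
  exact this

theorem exists_reduced_closure (w : X) :
    ∃ (Z : Scheme.{u}) (i : Z ⟶ X), IsClosedImmersion i ∧ Set.range i = closure {w} := by
  let I := Scheme.IdealSheafData.vanishingIdeal (⟨closure {w}, isClosed_closure⟩ : TopologicalSpace.Closeds X)
  refine ⟨I.subscheme, I.subschemeι, inferInstance, ?_⟩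
  rw [Scheme.IdealSheafData.range_subschemeι]
  exact Scheme.IdealSheafData.coe_support_vanishingIdeal _

theorem exists_product_generization (f : X ⟶ Spec (.of k)) (g : Y ⟶ Spec (.of k)) [LocallyOfFiniteType f]
    [LocallyOfFiniteType g] (z : ↥(pullback f g)) {w : X} {v : Y} (hw : w ⤳ pullback.fst f g z)
    (hv : v ⤳ pullback.snd f g z) :
    ∃ z', z' ⤳ z ∧ DimLib.ptDim (pullback.fst f g ≫ f) z' = DimLib.ptDim f w + DimLib.ptDim g v := by
  obtain ⟨X', i, hi, hiw⟩ := exists_reduced_closure w
  obtain ⟨Y', j, hj, hjv⟩ := exists_reduced_closure v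
  let mm : pullback (i ≫ f) (j ≫ g) ⟶ pullback f g :=
    pullback.map (i ≫ f) (j ≫ g) f g i j (𝟙 _) (by rw [Category.comp_id]) (by rw [Category.comp_id])
  haveI : IsClosedImmersion mm :=
    MorphismProperty.pullbackMap (P := @IsClosedImmersion.{u}) hi hj rfl rfl
  obtain ⟨z₀, hz₀⟩ : z ∈ Set.range mm := by
    rw [Scheme.Pullback.range_map]
    exact ⟨hiw.ge (specializes_iff_mem_closure.1 hw), hjv.ge (specializes_iff_mem_closure.1 hv)⟩
  obtain ⟨η, hη⟩ := QuasiSober.sober (S := irreducibleComponent z₀) isIrreducible_irreducibleComponent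
    isClosed_irreducibleComponent
  have hηz : η ⤳ z₀ := hη.specializes mem_irreducibleComponent
  have hmax : ∀ t, t ⤳ η → η = t := by
    intro t ht
    have h1 : irreducibleComponent z₀ ⊆ closure {t} := by
      rw [← hη.def]
      exact closure_minimal (Set.singleton_subset_iff.2 (specializes_iff_mem_closure.1 ht)) isClosed_closure
    have h2 := (irreducibleComponent_mem_irreducibleComponents z₀).2 isIrreducible_singleton.closure h1
    exact ((hη.specializes (h2 (subset_closure rfl))).antisymm ht).eq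
  haveI := DimLib.flat_over_field (i ≫ f)
  haveI := DimLib.flat_over_field (j ≫ g)
  have hx : i (pullback.fst (i ≫ f) (j ≫ g) η) = w := by
    obtain ⟨w', hw'⟩ : w ∈ Set.range i := hiw.ge (subset_closure rfl)
    have hs : w' ⤳ pullback.fst (i ≫ f) (j ≫ g) η := by
      rw [← i.isEmbedding.isInducing.specializes_iff, hw', specializes_iff_mem_closure]
      exact hiw.le ⟨_, rfl⟩
    rw [DimLib.isMax_apply_of_flat (pullback.fst (i ≫ f) (j ≫ g)) hmax w' hs, hw']
  have hy : j (pullback.snd (i ≫ f) (j ≫ g) η) = v := by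
    obtain ⟨v', hv'⟩ : v ∈ Set.range j := hjv.ge (subset_closure rfl)
    have hs : v' ⤳ pullback.snd (i ≫ f) (j ≫ g) η := by
      rw [← j.isEmbedding.isInducing.specializes_iff, hv', specializes_iff_mem_closure]
      exact hjv.le ⟨_, rfl⟩
    rw [DimLib.isMax_apply_of_flat (pullback.snd (i ≫ f) (j ≫ g)) hmax v' hs, hv']
  refine ⟨mm η, hz₀ ▸ hηz.map mm.continuous, ?_⟩
  have h := DimLib.ptDim_product_eq_of_maximal (i ≫ f) (j ≫ g) hmax
  rw [DimLib.ptDim_comp_preimmersion f i, DimLib.ptDim_comp_preimmersion g j, hx, hy] at h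
  rw [← h, ← DimLib.ptDim_comp_preimmersion (pullback.fst f g ≫ f) mm η]
  congr 1
  simp [mm]

theorem localDim_product (f : X ⟶ Spec (.of k)) (g : Y ⟶ Spec (.of k)) [LocallyOfFiniteType f]
    [LocallyOfFiniteType g] (z : ↥(pullback f g)) :
    FlatMor.localDim ↥(pullback f g) z =
      FlatMor.localDim X (pullback.fst f g z) + FlatMor.localDim Y (pullback.snd f g z) := by
  obtain ⟨n, hn, hnle, w, hw, hwn⟩ := exists_localDim_eq f (pullback.fst f g z)
  obtain ⟨m, hm, hmle, v, hv, hvm⟩ := exists_localDim_eq g (pullback.snd f g z)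
  obtain ⟨l, hl, hlle, t, ht, htl⟩ := exists_localDim_eq (pullback.fst f g ≫ f) z
  obtain ⟨z', hz', he⟩ := exists_product_generization f g z hw hv
  have h1 : l ≤ n + m := htl ▸ (DimLib.ptDim_product_le f g t).trans
    (add_le_add (hnle _ (ht.map (pullback.fst f g).continuous)) (hmle _ (ht.map (pullback.snd f g).continuous)))
  have h2 : n + m ≤ l := by rw [← hwn, ← hvm, ← he]; exact hlle z' hz'
  rw [hn, hm, hl, le_antisymm h1 h2]
  norm_cast

end Groth.Agent.FlatMorDimProd
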