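import Groth.Agent.FlatMorDimProd.FieldExt
import Groth.Agent.Props12.Stalks

/-!
# The maximal ideal generates upstairs when the dimension is preserved
-/

set_option autoImplicit false
set_option backward.isDefEq.respectTransparency false
set_option linter.style.haveILetI false

universe u

open CategoryTheory CategoryTheory.Limits AlgebraicGeometry TopologicalSpace IsLocalRing
open scoped TensorProduct

namespace Groth.Agent.FlatMorDimProd

open Groth.Agent

attribute [local instance] Curv2.resAlgebra

theorem exists_nat_of_add_eq {d : WithBot ℕ∞} {a n : ℕ}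
    (h : d + (a : WithBot ℕ∞) = (n : WithBot ℕ∞)) : ∃ e : ℕ, d = (e : WithBot ℕ∞) ∧ e + a = n := by
  cases d using WithBot.recBotCoe with
  | bot => simp at h
  | coe d =>
    cases d using ENat.recTopCoe with
    | top =>
      rw [← WithBot.coe_natCast, ← WithBot.coe_natCast, ← WithBot.coe_add, top_add] at h
      exact absurd (WithBot.coe_injective h) (ENat.top_ne_coe n)
    | coe d => exact ⟨d, rfl, by exact_mod_cast h⟩

variable (k : Type u) [Field k] (X : Scheme.{u}) [X.Over (Spec (CommRingCat.of k))]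
  [LocallyOfFiniteType (X ↘ Spec (CommRingCat.of k))] (K : Type u) [Field K] [Algebra k K]

theorem isReduced_fiber_bcFst (x : X) (h : _root_.IsReduced (X.residueField x ⊗[k] K)) :
    IsReduced ((Curv2.bcFst k X K).fiber x) := by
  have e : Spec.map (CommRingCat.ofHom (algebraMap k (X.residueField x))) =
      X.fromSpecResidueField x ≫ (X ↘ Spec (CommRingCat.of k)) := by
    rw [← DimLib.specMap_baseRingHom, DimLib.baseRingHom_eq_resMap]
    rfl
  haveI : IsReduced (Spec (CommRingCat.of (X.residueField x ⊗[k] K))) := inferInstance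
  let i₁ : (Curv2.bcFst k X K).fiber x ≅
      pullback (X.fromSpecResidueField x ≫ (X ↘ Spec (CommRingCat.of k)))
        (Spec.map (CommRingCat.ofHom (algebraMap k K))) :=
    pullbackSymmetry _ _ ≪≫ pullbackRightPullbackFstIso _ _ _
  let i₂ := pullback.congrHom e.symm (rfl : Spec.map (CommRingCat.ofHom (algebraMap k K)) = _)
  let i₃ := pullbackSpecIso k (X.residueField x) K
  exact isReduced_of_isOpenImmersion (i₁.hom ≫ i₂.hom ≫ i₃.hom)

theorem map_maximalIdeal_eq (y : ↥(Curv2.bc k X K))
    (hdim : ringKrullDim ↥(X.presheaf.stalk (Curv2.bcFst k X K y)) = ringKrullDim ↥((Curv2.bc k X K).presheaf.stalk y))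
    (hred : _root_.IsReduced (X.residueField (Curv2.bcFst k X K y) ⊗[k] K)) :
    Ideal.map ((Curv2.bcFst k X K).stalkMap y).hom (maximalIdeal ↑(X.presheaf.stalk (Curv2.bcFst k X K y))) =
      maximalIdeal ↑((Curv2.bc k X K).presheaf.stalk y) := by
  let f := X ↘ Spec (CommRingCat.of k)
  let p := Curv2.bcFst k X K
  set O := (Curv2.bc k X K).presheaf.stalk y
  set J := Ideal.map (p.stalkMap y).hom (maximalIdeal ↑(X.presheaf.stalk (p y))) with hJ
  have h1 := VarietyLib.localDim_eq_stalk_add_ptDim (DimLib.bcStr f K) y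
  rw [localDim_bc f K y, VarietyLib.localDim_eq_stalk_add_ptDim f (p y)] at h1
  have h3 := ringKrullDim_fibre_bc f K y
  obtain ⟨n, hn, -, -⟩ := exists_localDim_eq f (p y)
  have h2 := VarietyLib.localDim_eq_stalk_add_ptDim f (p y)
  rw [hn] at h2
  have heq : DimLib.ptDim (DimLib.bcStr f K) y = DimLib.ptDim f (p y) := by
    rw [show ringKrullDim ↥((pullback f (Spec.map (CommRingCat.ofHom (algebraMap k K)))).presheaf.stalk y) =
      ringKrullDim ↥(X.presheaf.stalk (p y)) from hdim.symm] at h1
    obtain ⟨e, he, he'⟩ := exists_nat_of_add_eq h2.symm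
    rw [he] at h1
    norm_cast at h1
    omega
  have hle : J ≤ maximalIdeal O :=
    ((IsLocalRing.local_hom_TFAE (p.stalkMap y).hom).out 0 2 rfl rfl).mp inferInstance
  haveI : Nontrivial (O ⧸ J) := Ideal.Quotient.nontrivial_iff.2 (fun h => (maximalIdeal.isMaximal O).ne_top (top_le_iff.1 (h ▸ hle)))
  haveI : IsLocalRing (O ⧸ J) := IsLocalRing.of_surjective' (Ideal.Quotient.mk J) Ideal.Quotient.mk_surjective
  obtain ⟨z, hz⟩ : y ∈ Set.range (p.fiberι (p y)) := by rw [p.range_fiberι]; rfl
  haveI := isReduced_fiber_bcFst k X K (p y) hred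
  haveI : _root_.IsReduced (O ⧸ J) := by
    have hgen : ∀ w : ↥(Curv2.bc k X K), p.fiberι (p y) z = w →
        _root_.IsReduced ((Curv2.bc k X K).presheaf.stalk w ⧸
          Ideal.map (p.stalkMap w).hom (maximalIdeal ↑(X.presheaf.stalk (p w)))) := by
      rintro _ rfl
      obtain ⟨hs, hk⟩ := Props12.stalkMap_fiberι p (p y) z
      have e := (Ideal.quotEquivOfEq hk).symm.trans (RingHom.quotientKerEquivOfSurjective hs)
      exact isReduced_of_injective e.toRingHom e.injective
    exact hgen y hz
  have h0 : ringKrullDim (O ⧸ J) = 0 := by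
    rw [heq] at h3
    have h4 : ringKrullDim (O ⧸ J) + (DimLib.ptDim f (p y) : WithBot ℕ∞) = (DimLib.ptDim f (p y) : WithBot ℕ∞) := h3
    obtain ⟨e, he, he'⟩ := exists_nat_of_add_eq h4
    rw [he]
    norm_cast
    omega
  haveI : Ring.KrullDimLE 0 (O ⧸ J) := Ring.krullDimLE_iff.2 h0.le
  haveI : J.IsMaximal := Ideal.Quotient.maximal_of_isField _ Ring.KrullDimLE.isField_of_isReduced
  exact IsLocalRing.eq_maximalIdeal inferInstance

end Groth.Agent.FlatMorDimProd
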